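import Groth.Agent.TorInd2Lib.Ring
import Groth.Agent.BaseAmpLib.Stalk
import Groth.Agent.RelFlatLib.TorDim
import Groth.Agent.PerfBaseLib.FlatProper

/-!
# Relative tor amplitude and tor-independent base change of schemes
-/

set_option autoImplicit false
set_option linter.style.haveILetI false
set_option backward.isDefEq.respectTransparency false
set_option backward.isDefEq.respectTransparency.types false
set_option maxHeartbeats 1000000

universe u

open CategoryTheory CategoryTheory.Limits AlgebraicGeometry HomologicalComplex MonoidalCategory TensorProduct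
open Groth.Agent
open TwoTermLib.RelAmp (resCx)

attribute [local instance] HasDerivedCategory.standard

noncomputable section

namespace TorInd2Lib

/-- The ring form of base change along a map induced by one of a ring over which everything is flat. -/
theorem amp_indep_step {A₀ A₀' A A'' B C : Type u} [CommRing A₀] [CommRing A₀'] [CommRing A] [CommRing A'']
    [CommRing B] [CommRing C] (l : A₀ →+* A) (φ : A →+* B) (ι₀ : A₀ →+* A₀') (ι'' : A →+* A'')
    (hl : l.Flat) (hlφ : (φ.comp l).Flat)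
    (L : letI := l.toAlgebra; letI := ι₀.toAlgebra; A₀' ⊗[A₀] A →+* A'')
    (hL : letI := l.toAlgebra; letI := ι₀.toAlgebra; L.Flat)
    (hLA : letI := l.toAlgebra; letI := ι₀.toAlgebra; ∀ a : A, L (1 ⊗ₜ a) = ι'' a)
    (r : letI := φ.toAlgebra; letI := ι''.toAlgebra; A'' ⊗[A] B →+* C)
    (hr : letI := φ.toAlgebra; letI := ι''.toAlgebra; r.Flat) (ψ : B →+* C) (φ'' : A'' →+* C)
    (hψ : letI := φ.toAlgebra; letI := ι''.toAlgebra; ∀ b : B, r (1 ⊗ₜ b) = ψ b)
    (hφ'' : letI := φ.toAlgebra; letI := ι''.toAlgebra; ∀ a : A'', r (a ⊗ₜ 1) = φ'' a)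
    {P : CochainComplex (ModuleCat.{u} B) ℤ} (hP : DRing.IsKFlat B P) {a b : ℤ}
    (h : DRing.HasTorAmplitudeIn A a b (DerivedCategory.Q.obj ((resCx φ).obj P))) :
    DRing.HasTorAmplitudeIn A'' a b
      (DerivedCategory.Q.obj ((resCx φ'').obj ((DRingLib.extCx ψ).obj P))) := by
  letI := φ.toAlgebra
  letI := ι''.toAlgebra
  letI := l.toAlgebra
  letI := ι₀.toAlgebra
  let ι : A →+* A₀' ⊗[A₀] A := (Algebra.TensorProduct.includeRight : A →ₐ[A₀] A₀' ⊗[A₀] A).toRingHom
  letI := ι.toAlgebra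
  have hι : L.comp ι = ι'' := RingHom.ext hLA
  let m : A₀' ⊗[A₀] A →ₐ[A] A'' := { L with commutes' := fun a => RingHom.congr_fun hι a }
  let μ := (Algebra.TensorProduct.map m (AlgHom.id A B)).toRingHom
  let κ : B →+* (A₀' ⊗[A₀] A) ⊗[A] B :=
    (Algebra.TensorProduct.includeRight : B →ₐ[A] (A₀' ⊗[A₀] A) ⊗[A] B).toRingHom
  have h' := amp_baseChange_indep l φ ι₀ ι _ _ (BaseAmpLib.isPushSq_tensor l ι₀) hl hlφ κ _ _
    (BaseAmpLib.isPushSq_tensor φ ι) hP h
  have h'' := BaseAmpLib.amp_flat_baseChange _ L μ _ _ (isPushSq_trans φ ι L ι'' hι) hL r hr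
    (r.comp μ) φ'' rfl (RingHom.ext hφ'') (KFlatLib.isKFlat_extend κ hP) h'
  refine DRingLib.hasTorAmplitudeIn_of_iso
    (DerivedCategory.Q.mapIso ((resCx φ'').mapIso (TwoTermLib.RelAmp.extCompIso κ (r.comp μ) (χ := ψ) ?_ P))) h''
  refine RingHom.ext fun z => ?_
  show ψ z = r (Algebra.TensorProduct.map m (AlgHom.id A B) ((1 : A₀' ⊗[A₀] A) ⊗ₜ[A] z))
  rw [Algebra.TensorProduct.map_tmul, map_one]
  exact (hψ z).symm

variable {X Y X' Y' S S' : Scheme.{u}} {f : X ⟶ Y} {g : Y' ⟶ Y} {f' : X' ⟶ Y'} {g' : X' ⟶ X}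
  {p : Y ⟶ S} {p' : Y' ⟶ S'} {s : S' ⟶ S}

/-- The local rings in a base change of the base. -/
theorem exists_local_data (hY : IsPullback g p' p s) (y' : Y') :
    ∀ (y₀ : Y) (h : g.base y' ⤳ y₀), g.base y' = y₀ →
      ∃ (ι₀ : S.presheaf.stalk (p.base y₀) →+* S'.presheaf.stalk (p'.base y')),
        letI := (p.stalkMap y₀).hom.toAlgebra
        letI := ι₀.toAlgebra
        ∃ L : S'.presheaf.stalk (p'.base y') ⊗[S.presheaf.stalk (p.base y₀)] Y.presheaf.stalk y₀ →+*
            Y'.presheaf.stalk y',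
          L.Flat ∧ ∀ a, L (1 ⊗ₜ a) = (Y.presheaf.stalkSpecializes h ≫ g.stalkMap y').hom a := by
  rintro y₀ h rfl
  refine ⟨BaseAmpLib.baseMap hY y', BaseAmpLib.stalkLift hY y', BaseAmpLib.flat_stalkLift hY y', fun a => ?_⟩
  rw [BaseAmpLib.stalkLift_tmul, Y.presheaf.stalkSpecializes_refl, Category.id_comp]
  simp

/-- Tor-independent base change preserves relative tor amplitude, at a point. -/
theorem ampAt_pull_indep (hc : IsPullback g' f' f g) (hY : IsPullback g p' p s) [Flat p] [Flat (f ≫ p)]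
    {P : CochainComplex X.Modules ℤ} (hP : DCoh.IsKFlat P) {a b : ℤ} {x' : X'}
    (h : DerSch.HasTorAmplitudeAt f a b P (g'.base x')) :
    DerSch.HasTorAmplitudeAt f' a b ((KFlatLib.pullCx g').obj P) x' := by
  obtain ⟨ι₀, L, hL, hLA⟩ := exists_local_data hY (f'.base x') (f.base (g'.base x'))
    ((congrArg (fun k : X' ⟶ Y => k.base x') hc.w).symm ▸ specializes_rfl)
    (congrArg (fun k : X' ⟶ Y => k.base x') hc.w).symm
  refine DRingLib.hasTorAmplitudeIn_of_iso
    (DerivedCategory.Q.mapIso (RelFlatLib.stalkOverPullIso g' f' x' P)).symm ?_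
  refine amp_indep_step (p.stalkMap (f.base (g'.base x'))).hom (f.stalkMap (g'.base x')).hom ι₀
    (BaseAmpLib.baseMap hc x') (Flat.stalkMap p _) ?_ L hL hLA (BaseAmpLib.stalkLift hc x')
    (BaseAmpLib.flat_stalkLift hc x') _ _ (fun z => ?_) (fun z => ?_) (KFlatLib.stalks_isKFlat hP _) h
  · have h2 := Flat.stalkMap (f ≫ p) (g'.base x')
    rw [Scheme.Hom.stalkMap_comp, CommRingCat.hom_comp] at h2
    exact h2
  · rw [BaseAmpLib.stalkLift_tmul]
    simp
  · rw [BaseAmpLib.stalkLift_tmul]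
    simp

/-- Flat base change preserves relative tor amplitude, at a point. -/
theorem ampAt_pull_flat (hc : IsPullback g' f' f g) [Flat g]
    {P : CochainComplex X.Modules ℤ} (hP : DCoh.IsKFlat P) {a b : ℤ} {x' : X'}
    (h : DerSch.HasTorAmplitudeAt f a b P (g'.base x')) :
    DerSch.HasTorAmplitudeAt f' a b ((KFlatLib.pullCx g').obj P) x' := by
  refine DRingLib.hasTorAmplitudeIn_of_iso
    (DerivedCategory.Q.mapIso (RelFlatLib.stalkOverPullIso g' f' x' P)).symm ?_
  letI := (f.stalkMap (g'.base x')).hom.toAlgebra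
  letI := (BaseAmpLib.baseMap hc x').toAlgebra
  exact BaseAmpLib.amp_flat_baseChange _ _ _ _ _
    (BaseAmpLib.isPushSq_tensor (f.stalkMap (g'.base x')).hom (BaseAmpLib.baseMap hc x'))
    (BaseAmpLib.flat_baseMap hc x') (BaseAmpLib.stalkLift hc x') (BaseAmpLib.flat_stalkLift hc x') _ _
    (RingHom.ext fun z => by
      show BaseAmpLib.stalkLift hc x' ((1 : Y'.presheaf.stalk (f'.base x')) ⊗ₜ z) = (g'.stalkMap x').hom z
      rw [BaseAmpLib.stalkLift_tmul]
      simp)
    (RingHom.ext fun z => by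
      show BaseAmpLib.stalkLift hc x' (z ⊗ₜ (1 : X.presheaf.stalk (g'.base x'))) = (f'.stalkMap x').hom z
      rw [BaseAmpLib.stalkLift_tmul]
      simp)
    (KFlatLib.stalks_isKFlat hP _) h

/-- Tor dimension under tor-independent base change. -/
theorem hasTorDimLE_indep (hc : IsPullback g' f' f g) (hY : IsPullback g p' p s) [Flat p] [Flat (f ≫ p)]
    (n : ℕ) (h : DerSch.HasTorDimLE f n) : DerSch.HasTorDimLE f' n := fun x' =>
  RelFlatLib.ampAt_of_iso f' (DerivedCategory.Q.mapIso (PerfBaseLib.pullUnitIso g'))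
    (ampAt_pull_indep hc hY (PerfBaseLib.isKFlat_unitCx X) (h (g'.base x')))

/-- Tor dimension under flat base change. -/
theorem hasTorDimLE_flat (hc : IsPullback g' f' f g) [Flat g]
    (n : ℕ) (h : DerSch.HasTorDimLE f n) : DerSch.HasTorDimLE f' n := fun x' =>
  RelFlatLib.ampAt_of_iso f' (DerivedCategory.Q.mapIso (PerfBaseLib.pullUnitIso g'))
    (ampAt_pull_flat hc (PerfBaseLib.isKFlat_unitCx X) (h (g'.base x')))

end TorInd2Lib
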