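import Groth.Agent.RelAmpBCLib.Main
import Groth.Agent.DRingLib.ResolProps

/-!
# Tor amplitude and tor-independent base change
-/

set_option autoImplicit false
set_option linter.style.haveILetI false
set_option backward.isDefEq.respectTransparency false
set_option backward.isDefEq.respectTransparency.types false
set_option maxHeartbeats 1000000

universe u

open CategoryTheory CategoryTheory.Limits HomologicalComplex MonoidalCategory TensorProduct
open Groth.Agent
open TwoTermLib.RelAmp (resCx)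

attribute [local instance] HasDerivedCategory.standard

noncomputable section

namespace TorInd2Lib

theorem isKFlat_iso {A : Type u} [CommRing A] {P Q : CochainComplex (ModuleCat.{u} A) ℤ} (e : P ≅ Q)
    (h : DRing.IsKFlat A P) : DRing.IsKFlat A Q := fun M hM i =>
  (h M hM i).of_iso ((HomologicalComplex.homologyFunctor (ModuleCat.{u} A) (ComplexShape.up ℤ) i).mapIso
    (MonoidalCategory.tensorIso (Iso.refl M) e.symm))

variable {A₀ A₀' A A' B B' : Type u} [CommRing A₀] [CommRing A₀'] [CommRing A] [CommRing A'] [CommRing B]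
  [CommRing B']

/-- Base change preserves tor amplitude when source and target are flat over a ring along which
the base ring is changed. -/
theorem amp_baseChange_indep (l : A₀ →+* A) (φ : A →+* B) (ι₀ : A₀ →+* A₀') (ι : A →+* A') (χ₀ : A₀' →+* A')
    (w₀ : ι.comp l = χ₀.comp ι₀) (hsq₀ : TorLocLib.IsPushSq l ι₀ ι χ₀ w₀) (hl : l.Flat) (hlφ : (φ.comp l).Flat)
    (κ : B →+* B') (χ : A' →+* B') (w : κ.comp φ = χ.comp ι) (hsq : TorLocLib.IsPushSq φ ι κ χ w)
    {P : CochainComplex (ModuleCat.{u} B) ℤ} (hP : DRing.IsKFlat B P) {a b : ℤ}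
    (h : DRing.HasTorAmplitudeIn A a b (DerivedCategory.Q.obj ((resCx φ).obj P))) :
    DRing.HasTorAmplitudeIn A' a b
      (DerivedCategory.Q.obj ((resCx χ).obj ((DRingLib.extCx κ).obj P))) := by
  haveI := DRingLib.hasLBaseChange ι
  let M := (resCx φ).obj P
  let Q := (DRingLib.resP A).obj M
  let g : Q ⟶ M := (DRingLib.resψ A).app M
  haveI : QuasiIso g := DRingLib.quasiIso_resψ M
  have hQ : DRing.IsKFlat A Q := (DRingLib.good_resP M).1
  have hQ₀ : DRing.IsKFlat A₀ ((resCx l).obj Q) := RelAmpBCLib.isKFlat_res l hl hQ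
  have hM₀ : DRing.IsKFlat A₀ ((resCx l).obj M) :=
    isKFlat_iso ((NatIso.mapHomologicalComplex (ModuleCat.restrictScalarsComp.{u} l φ) (ComplexShape.up ℤ)).app P)
      (RelAmpBCLib.isKFlat_res (φ.comp l) hlφ hP)
  haveI : QuasiIso ((resCx l).map g) := ⟨fun i =>
    (quasiIsoAt_map_iff_of_preservesHomology g (ModuleCat.restrictScalars.{u} l) i).2 (QuasiIso.quasiIsoAt i)⟩
  haveI hq₀ : QuasiIso ((DRingLib.extCx ι₀).map ((resCx l).map g)) :=
    KFlatLib.quasiIso_extend ι₀ hQ₀ hM₀ ((resCx l).map g)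
  let η := NatIso.mapHomologicalComplex (TorLocLib.sqIso l ι₀ ι χ₀ w₀ hsq₀) (ComplexShape.up ℤ)
  have hq : QuasiIso ((resCx χ₀).map ((DRingLib.extCx ι).map g)) :=
    (quasiIso_iff_of_arrow_mk_iso _ _ (Arrow.isoMk (η.app Q) (η.app M) (η.hom.naturality g).symm)).1 hq₀
  haveI : QuasiIso ((DRingLib.extCx ι).map g) := ⟨fun i =>
    (quasiIsoAt_map_iff_of_preservesHomology ((DRingLib.extCx ι).map g) (ModuleCat.restrictScalars.{u} χ₀) i).1
      (hq.quasiIsoAt i)⟩
  have h₀ : DRing.HasTorAmplitudeIn A' a b (DerivedCategory.Q.obj ((DRingLib.extCx ι).obj M)) :=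
    DRingLib.hasTorAmplitudeIn_of_iso (DRingLib.lBaseChangeObjIso ι Q hQ ≪≫
        asIso (DerivedCategory.Q.map ((DRingLib.extCx ι).map g)))
      (Groth.Agent.S6948.result ι _ a b
        (DRingLib.hasTorAmplitudeIn_of_iso (asIso (DerivedCategory.Q.map g)).symm h))
  exact DRingLib.hasTorAmplitudeIn_of_iso
    (DerivedCategory.Q.mapIso (TorLocLib.sqCxIso φ ι κ χ w hsq P)) h₀

/-- A pushout of algebras gives a pushout square. -/
theorem isPushSq_of_pushout {P P' C C' : Type u} [CommRing P] [CommRing P'] [CommRing C] [CommRing C'] [Algebra P C]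
    [Algebra P P'] [Algebra C C'] [Algebra P' C'] [Algebra P C'] [IsScalarTower P C C'] [IsScalarTower P P' C']
    (h : Algebra.IsPushout P P' C C') (φ : P →+* C) (ι : P →+* P') (κ : C →+* C') (χ : P' →+* C')
    (w : κ.comp φ = χ.comp ι) (hφ : algebraMap P C = φ) (hι : algebraMap P P' = ι) (hκ : algebraMap C C' = κ)
    (hχ : algebraMap P' C' = χ) : TorLocLib.IsPushSq φ ι κ χ w := by
  subst hφ hι hκ hχ
  unfold TorLocLib.IsPushSq
  convert h using 1 <;> exact Algebra.algebra_ext _ _ fun r => (by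
    first
      | rfl
      | exact (IsScalarTower.algebraMap_apply P C C' r).symm)

/-- Associativity of base change gives a pushout square. -/
theorem isPushSq_trans (φ : A →+* B) (ι : A →+* A') {A'' : Type u} [CommRing A''] (ι' : A' →+* A'')
    (ι'' : A →+* A'') (hι : ι'.comp ι = ι'') :
    letI := φ.toAlgebra
    letI := ι.toAlgebra
    letI := ι''.toAlgebra
    let m : A' →ₐ[A] A'' := { ι' with commutes' := fun a => RingHom.congr_fun hι a }
    TorLocLib.IsPushSq (Algebra.TensorProduct.includeLeftRingHom : A' →+* A' ⊗[A] B) ι'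
      (Algebra.TensorProduct.map m (AlgHom.id A B)).toRingHom
      (Algebra.TensorProduct.includeLeftRingHom : A'' →+* A'' ⊗[A] B)
      (RingHom.ext fun x => by simp [m]) := by
  letI := φ.toAlgebra
  letI := ι.toAlgebra
  letI := ι''.toAlgebra
  let m : A' →ₐ[A] A'' := { ι' with commutes' := fun a => RingHom.congr_fun hι a }
  let μ : A' ⊗[A] B →+* A'' ⊗[A] B := (Algebra.TensorProduct.map m (AlgHom.id A B)).toRingHom
  have hμ : ∀ x b, μ (x ⊗ₜ b) = ι' x ⊗ₜ b := fun x b => by simp [μ, m]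
  letI := ι'.toAlgebra
  haveI : IsScalarTower A A' A'' := IsScalarTower.of_algebraMap_eq fun a => (RingHom.congr_fun hι a).symm
  letI : Algebra (A' ⊗[A] B) (A'' ⊗[A] B) := μ.toAlgebra
  letI : Algebra B (A' ⊗[A] B) := Algebra.TensorProduct.rightAlgebra
  letI : Algebra B (A'' ⊗[A] B) := Algebra.TensorProduct.rightAlgebra
  haveI : IsScalarTower A' (A' ⊗[A] B) (A'' ⊗[A] B) := IsScalarTower.of_algebraMap_eq fun x => by
    show ι' x ⊗ₜ (1 : B) = μ (x ⊗ₜ 1)
    rw [hμ]
  haveI : IsScalarTower A (A' ⊗[A] B) (A'' ⊗[A] B) := IsScalarTower.of_algebraMap_eq fun a => by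
    show algebraMap A A'' a ⊗ₜ[A] (1 : B) = μ (algebraMap A A' a ⊗ₜ 1)
    rw [hμ]
    exact congrArg (· ⊗ₜ[A] (1 : B)) (RingHom.congr_fun hι a).symm
  haveI : IsScalarTower B (A' ⊗[A] B) (A'' ⊗[A] B) := IsScalarTower.of_algebraMap_eq fun b => by
    show (1 : A'') ⊗ₜ b = μ ((1 : A') ⊗ₜ b)
    rw [hμ, map_one]
  haveI : Algebra.IsPushout A A' B (A' ⊗[A] B) := TensorProduct.isPushout
  have h : Algebra.IsPushout A' A'' (A' ⊗[A] B) (A'' ⊗[A] B) :=
    (Algebra.IsPushout.comp_iff A A' B (A' ⊗[A] B)).1 (TensorProduct.isPushout : Algebra.IsPushout A A'' B (A'' ⊗[A] B))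
  exact isPushSq_of_pushout h _ _ _ _ _ rfl rfl rfl rfl

end TorInd2Lib
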